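import Groth.Agent.DAlg.SiteInj
import Groth.Agent.DAlg.DerivedLeftAdj
import Groth.Agent.SiteCohomology.SchemeModules
import Groth.Agent.SiteCohomology.PushTotallyAcyclic
import Groth.Prelude.Def_DCoh2
import Mathlib.CategoryTheory.Sites.Spaces
import Mathlib.Topology.Sheaves.Functors

/-!
# `Rf_*` of a morphism of schemes is a right adjoint
-/

universe u

open CategoryTheory CategoryTheory.Limits Opposite AlgebraicGeometry TopologicalSpace
open Groth.DAlg

attribute [local instance] HasDerivedCategory.standard

set_option synthInstance.maxHeartbeats 400000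
set_option maxHeartbeats 1000000

namespace Groth.Misc7.SchemePush

attribute [local instance] reflectsLimits_of_reflectsIsomorphisms in
/-- Pullback of sheaves of sets along a continuous map is left exact. -/
theorem preservesFiniteLimits_sheafPullback {X Y : TopCat.{u}} (f : X ⟶ Y) :
    PreservesFiniteLimits ((Opens.map f).sheafPullback (Type u) (Opens.grothendieckTopology Y)
      (Opens.grothendieckTopology X)) := by
  apply Functor.sheafPullbackConstruction.preservesFiniteLimits

variable {X Y : Scheme.{u}} (f : X ⟶ Y)

/-- The free module on an open. -/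
noncomputable def freeOn (V : Y.Opens) : Y.Modules :=
  SiteInj.freeMod (Opens.grothendieckTopology Y) Y.ringCatSheaf V

/-- Free modules on opens are adapted to `f_*`. -/
lemma acy_freeOn (V : Y.Opens) : FAcyclic.Acy (Scheme.Modules.pushforward f) (freeOn V) := fun I hI q => by
  have := preservesFiniteLimits_sheafPullback f.base
  refine SiteInj.subsingleton_ext_freeMod (Opens.grothendieckTopology Y) Y.ringCatSheaf V _
    (fun U i => ?_) q
  exact Groth.SiteCohomology.subsingleton_HU_push (Opens.grothendieckTopology X) (Opens.grothendieckTopology Y)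
    (Opens.map f.base) i ((SheafOfModules.toSheaf X.ringCatSheaf).obj I)
    (fun W j => @SiteInj.subsingleton_HU_of_injective _ _ (Opens.grothendieckTopology X) X.ringCatSheaf I hI W j) U

/-- Free modules on objects detect equality of morphisms. -/
lemma freeMod_separates {C : Type u} [SmallCategory C] (J : GrothendieckTopology C) (R : Sheaf J RingCat.{u})
    {M N : SheafOfModules.{u} R} (g g' : M ⟶ N)
    (h : ∀ (V : C) (φ : SiteInj.freeMod J R V ⟶ M), φ ≫ g = φ ≫ g') : g = g' := by
  apply (SheafOfModules.toSheaf R).map_injective
  apply ObjectProperty.hom_ext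
  ext V x
  have e := congrArg (SiteInj.freeModHomEquiv J R V.unop N)
    (h V.unop ((SiteInj.freeModHomEquiv J R V.unop M).symm x))
  rw [SiteInj.freeModHomEquiv_comp, SiteInj.freeModHomEquiv_comp] at e
  erw [Equiv.apply_symm_apply] at e
  exact e

/-- `Rf_*` has a left adjoint. -/
theorem isRightAdjoint_Rpush [DCoh.HasRpush f] : (DCoh.Rpush f).IsRightAdjoint :=
  DerivedLeftAdj.isRightAdjoint (Scheme.Modules.pullbackPushforwardAdjunction f) (DCoh.Rpush f)
    ((DCoh.pushKh f).totalRightDerivedUnit DerivedCategory.Qh
      (HomotopyCategory.quasiIso X.Modules (ComplexShape.up ℤ)))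
    (fun V : Y.Opens => freeOn V) (fun g g' h => freeMod_separates (Opens.grothendieckTopology Y) Y.ringCatSheaf g g' h) (acy_freeOn f)

end Groth.Misc7.SchemePush
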